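import Groth.Agent.H15Site.BasisSheaf
import Mathlib.AlgebraicGeometry.AffineScheme

/-!
# Sheaves of sets on the basis of affine opens of a scheme
-/

universe u

open CategoryTheory TopologicalSpace Opposite AlgebraicGeometry
open Groth.Agent.H15Site.BasisSheaf

namespace Groth.Agent.H17.AffBasis

variable {X : Scheme.{u}}

/-- The binary condition: gluing along covers of an affine open by two basic opens. -/
def PairGlue (F : ShB.Pre (X := X) X.affineOpens) : Prop :=
  ∀ (U V W VW : X.affineOpens) (f g : Γ(X, (U : X.Opens))),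
    (V : X.Opens) = X.basicOpen f → (W : X.Opens) = X.basicOpen g →
    (VW : X.Opens) = X.basicOpen (f * g) → (U : X.Opens) = (V : X.Opens) ⊔ (W : X.Opens) →
    ∀ (hV : (V : X.Opens) ≤ (U : X.Opens)) (hW : (W : X.Opens) ≤ (U : X.Opens))
      (h1 : (VW : X.Opens) ≤ (V : X.Opens)) (h2 : (VW : X.Opens) ≤ (W : X.Opens)),
      (∀ t t' : F.obj U, F.res hV t = F.res hV t' → F.res hW t = F.res hW t' → t = t') ∧
      ∀ (a : F.obj V) (b : F.obj W), F.res h1 a = F.res h2 b →
        ∃ t, F.res hV t = a ∧ F.res hW t = b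

/-- The empty open has exactly one section. -/
def EmptyGlue (F : ShB.Pre (X := X) X.affineOpens) : Prop :=
  ∀ U : X.affineOpens, (U : X.Opens) = ⊥ → Nonempty (F.obj U) ∧ Subsingleton (F.obj U)

variable {F : ShB.Pre (X := X) X.affineOpens}

theorem pair_sep (hp : PairGlue F) (U : X.affineOpens) (f g : Γ(X, (U : X.Opens)))
    (hc : (U : X.Opens) ≤ X.basicOpen f ⊔ X.basicOpen g) (t t' : F.obj U)
    (hf : F.res (V := X.affineBasicOpen f) (X.basicOpen_le f) t =
      F.res (V := X.affineBasicOpen f) (X.basicOpen_le f) t')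
    (hg : F.res (V := X.affineBasicOpen g) (X.basicOpen_le g) t =
      F.res (V := X.affineBasicOpen g) (X.basicOpen_le g) t') : t = t' :=
  (hp U (X.affineBasicOpen f) (X.affineBasicOpen g) (X.affineBasicOpen (f * g)) f g rfl rfl rfl
    (le_antisymm hc (sup_le (X.basicOpen_le f) (X.basicOpen_le g))) (X.basicOpen_le f)
    (X.basicOpen_le g) (le_of_eq_of_le (X.basicOpen_mul f g) inf_le_left)
    (le_of_eq_of_le (X.basicOpen_mul f g) inf_le_right)).1 t t' hf hg

/-- Splitting off the first element of a cover by basic opens. -/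
theorem split (U : X.affineOpens) {n : ℕ} (f : Fin (n + 1) → Γ(X, (U : X.Opens)))
    (hc : (U : X.Opens) ≤ ⨆ i, X.basicOpen (f i)) :
    ∃ g : Γ(X, (U : X.Opens)), (U : X.Opens) ≤ X.basicOpen (f 0) ⊔ X.basicOpen g ∧
      X.basicOpen g ≤ ⨆ i : Fin n, X.basicOpen (f i.succ) := by
  have hspan : Ideal.span (Set.range f) = ⊤ := by
    rw [← U.2.self_le_iSup_basicOpen_iff]
    refine hc.trans (iSup_le fun i => le_iSup_of_le (⟨f i, i, rfl⟩ : Set.range f) le_rfl)
  obtain ⟨c, hsum⟩ := Ideal.mem_span_range_iff_exists_fun.1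
    ((Ideal.eq_top_iff_one _).1 hspan)
  refine ⟨∑ i : Fin n, c i.succ * f i.succ, ?_, ?_⟩
  · conv_lhs => rw [← X.basicOpen_one (U := (U : X.Opens)), ← hsum, Fin.sum_univ_succ]
    refine (X.basicOpen_add_le _ _).trans (sup_le_sup_right ?_ _)
    exact le_of_eq_of_le (X.basicOpen_mul _ _) inf_le_right
  · suffices ∀ s : Finset (Fin n), X.basicOpen (∑ i ∈ s, c i.succ * f i.succ) ≤
        ⨆ i : Fin n, X.basicOpen (f i.succ) from this _
    intro s
    induction s using Finset.cons_induction with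
    | empty => simp
    | cons a s ha ih =>
      rw [Finset.sum_cons]
      refine (X.basicOpen_add_le _ _).trans (sup_le (le_trans ?_ (le_iSup _ a)) ih)
      exact le_of_eq_of_le (X.basicOpen_mul _ _) inf_le_right

theorem res_cover {U W : X.affineOpens} (h : (W : X.Opens) ≤ (U : X.Opens)) {n : ℕ}
    (f : Fin n → Γ(X, (U : X.Opens))) (hc : (W : X.Opens) ≤ ⨆ i, X.basicOpen (f i)) :
    (W : X.Opens) ≤ ⨆ i, X.basicOpen (X.presheaf.map (homOfLE h).op (f i)) := by
  refine (le_inf le_rfl hc).trans ?_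
  rw [inf_iSup_eq]
  exact iSup_mono fun i => (X.basicOpen_res _ _).ge

theorem res_basicOpen_le {U W : X.affineOpens} (h : (W : X.Opens) ≤ (U : X.Opens))
    (f : Γ(X, (U : X.Opens))) :
    (X.affineBasicOpen (X.presheaf.map (homOfLE h).op f) : X.Opens) ≤
      (X.affineBasicOpen f : X.Opens) :=
  le_of_eq_of_le (X.basicOpen_res _ _) inf_le_right

theorem eq_bot_of_cover_empty (U : X.affineOpens) (f : Fin 0 → Γ(X, (U : X.Opens)))
    (hc : (U : X.Opens) ≤ ⨆ i, X.basicOpen (f i)) : (U : X.Opens) = ⊥ := by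
  simpa using hc

theorem fin_sep (he : EmptyGlue F) (hp : PairGlue F) :
    ∀ (n : ℕ) (U : X.affineOpens) (f : Fin n → Γ(X, (U : X.Opens))),
      (U : X.Opens) ≤ ⨆ i, X.basicOpen (f i) → ∀ t t' : F.obj U,
      (∀ i, F.res (V := X.affineBasicOpen (f i)) (X.basicOpen_le (f i)) t =
        F.res (V := X.affineBasicOpen (f i)) (X.basicOpen_le (f i)) t') → t = t' := by
  intro n
  induction n with
  | zero =>
    intro U f hc t t' _
    haveI := (he U (eq_bot_of_cover_empty U f hc)).2
    exact Subsingleton.elim _ _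
  | succ n ih =>
    intro U f hc t t' h
    obtain ⟨g, hcg, hgc⟩ := split U f hc
    refine pair_sep hp U (f 0) g hcg t t' (h 0) ?_
    refine ih (X.affineBasicOpen g) _ (res_cover (X.basicOpen_le g) _ hgc) _ _ fun i => ?_
    have hgU : (X.affineBasicOpen g : X.Opens) ≤ (U : X.Opens) := X.basicOpen_le g
    have hle := res_basicOpen_le hgU (f i.succ)
    have := congrArg (F.res hle) (h i.succ)
    simpa only [F.res_comp] using this

theorem fin_glue (he : EmptyGlue F) (hp : PairGlue F) :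
    ∀ (n : ℕ) (U : X.affineOpens) (f : Fin n → Γ(X, (U : X.Opens))),
      (U : X.Opens) ≤ ⨆ i, X.basicOpen (f i) → ∀ s : ∀ i, F.obj (X.affineBasicOpen (f i)),
      (∀ i j (N : X.affineOpens) (h₁ : (N : X.Opens) ≤ (X.affineBasicOpen (f i) : X.Opens))
        (h₂ : (N : X.Opens) ≤ (X.affineBasicOpen (f j) : X.Opens)),
        F.res h₁ (s i) = F.res h₂ (s j)) →
      ∃ t : F.obj U, ∀ i, F.res (X.basicOpen_le (f i)) t = s i := by
  intro n
  induction n with
  | zero =>
    intro U f hc s _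
    exact ⟨(he U (eq_bot_of_cover_empty U f hc)).1.some, fun i => i.elim0⟩
  | succ n ih =>
    intro U f hc s hs
    obtain ⟨g, hcg, hgc⟩ := split U f hc
    have hgU : (X.affineBasicOpen g : X.Opens) ≤ (U : X.Opens) := X.basicOpen_le g
    obtain ⟨b, hb⟩ := ih (X.affineBasicOpen g)
      (fun i => X.presheaf.map (homOfLE hgU).op (f i.succ)) (res_cover hgU _ hgc)
      (fun i => F.res (res_basicOpen_le hgU (f i.succ)) (s i.succ))
      (fun i j N h₁ h₂ => by
        rw [F.res_comp, F.res_comp]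
        exact hs _ _ N _ _)
    have h1 : (X.affineBasicOpen (f 0 * g) : X.Opens) ≤ (X.affineBasicOpen (f 0) : X.Opens) :=
      le_of_eq_of_le (X.basicOpen_mul _ _) inf_le_left
    have h2 : (X.affineBasicOpen (f 0 * g) : X.Opens) ≤ (X.affineBasicOpen g : X.Opens) :=
      le_of_eq_of_le (X.basicOpen_mul _ _) inf_le_right
    have hab : F.res h1 (s 0) = F.res h2 b := by
      have hU' : (X.affineBasicOpen (f 0 * g) : X.Opens) ≤ (U : X.Opens) := X.basicOpen_le _
      refine fin_sep he hp n (X.affineBasicOpen (f 0 * g))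
        (fun i => X.presheaf.map (homOfLE hU').op (f i.succ))
        (res_cover hU' _ (h2.trans hgc)) _ _ fun i => ?_
      have hN₁ := res_basicOpen_le hU' (f i.succ)
      have hN₂ : (X.affineBasicOpen (X.presheaf.map (homOfLE hU').op (f i.succ)) : X.Opens) ≤
          (X.affineBasicOpen (X.presheaf.map (homOfLE hgU).op (f i.succ)) : X.Opens) := by
        show X.basicOpen _ ≤ X.basicOpen _
        rw [X.basicOpen_res, X.basicOpen_res]
        exact inf_le_inf_right _ h2
      have e := congrArg (F.res hN₂) (hb i)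
      simp only [F.res_comp] at e ⊢
      rw [e]
      exact hs 0 i.succ _ _ _
    obtain ⟨t, ht0, htg⟩ := (hp U (X.affineBasicOpen (f 0)) (X.affineBasicOpen g)
      (X.affineBasicOpen (f 0 * g)) (f 0) g rfl rfl rfl
      (le_antisymm hcg (sup_le (X.basicOpen_le _) (X.basicOpen_le _)))
      (X.basicOpen_le _) hgU h1 h2).2 (s 0) b hab
    refine ⟨t, Fin.cases ht0 fun i => ?_⟩
    have hiU : (X.affineBasicOpen (f i.succ) : X.Opens) ≤ (U : X.Opens) := X.basicOpen_le _
    refine pair_sep hp (X.affineBasicOpen (f i.succ)) (X.presheaf.map (homOfLE hiU).op (f 0))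
      (X.presheaf.map (homOfLE hiU).op g) ?_ _ _ ?_ ?_
    · rw [X.basicOpen_res, X.basicOpen_res, ← inf_sup_left]
      exact le_inf le_rfl (hiU.trans hcg)
    · have hN₁ := res_basicOpen_le hiU (f 0)
      have e := congrArg (F.res hN₁) ht0
      simp only [F.res_comp] at e ⊢
      rw [e]
      exact hs 0 i.succ _ _ _
    · have hN₁ := res_basicOpen_le hiU g
      have hN₂ : (X.affineBasicOpen (X.presheaf.map (homOfLE hiU).op g) : X.Opens) ≤
          (X.affineBasicOpen (X.presheaf.map (homOfLE hgU).op (f i.succ)) : X.Opens) := by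
        show X.basicOpen _ ≤ X.basicOpen _
        rw [X.basicOpen_res, X.basicOpen_res]
        exact le_inf inf_le_right inf_le_left
      have e := congrArg (F.res hN₁) htg
      have e' := congrArg (F.res hN₂) (hb i)
      simp only [F.res_comp] at e e' ⊢
      rw [e, e']

/-- Any cover of an affine open by affine opens refines to a finite cover by basic opens. -/
theorem exists_refine (U : X.affineOpens) {ι : Type u} (V : ι → X.affineOpens)
    (hc : (U : X.Opens) ≤ ⨆ i, (V i : X.Opens)) :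
    ∃ (n : ℕ) (f : Fin n → Γ(X, (U : X.Opens))) (σ : Fin n → ι),
      (U : X.Opens) ≤ ⨆ i, X.basicOpen (f i) ∧
        ∀ i, X.basicOpen (f i) ≤ (V (σ i) : X.Opens) := by
  have h : ∀ x : ↥(U : X.Opens), ∃ (f : Γ(X, (U : X.Opens))) (i : ι),
      X.basicOpen f ≤ (V i : X.Opens) ∧ x.1 ∈ X.basicOpen f := fun x => by
    obtain ⟨i, hi⟩ := mem_iSup_of_le hc x.2
    obtain ⟨f, hf, hxf⟩ := U.2.exists_basicOpen_le ⟨x.1, hi⟩ x.2
    exact ⟨f, i, hf, hxf⟩
  choose f i hle hx using h
  obtain ⟨s, hs⟩ := U.2.isCompact.elim_finite_subcover (fun x => (X.basicOpen (f x) : Set X))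
    (fun x => (X.basicOpen (f x)).2) (fun x h => Set.mem_iUnion.2 ⟨⟨x, h⟩, hx ⟨x, h⟩⟩)
  refine ⟨s.card, fun k => f (s.equivFin.symm k).1, fun k => i (s.equivFin.symm k).1,
    le_iSup_of_points fun x h => ?_, fun k => hle _⟩
  obtain ⟨y, hys, hy⟩ := Set.mem_iUnion₂.1 (hs h)
  exact ⟨s.equivFin ⟨y, hys⟩, by simpa using hy⟩

theorem isSheaf_of_pairGlue (he : EmptyGlue F) (hp : PairGlue F) : ShB.IsSheaf F := by
  have hB : Opens.IsBasis (α := X) X.affineOpens := X.isBasis_affineOpens
  have hsep : Sep F := by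
    intro U t t' h
    choose N hN hxN hres using h
    obtain ⟨n, f, σ, hcf, hle⟩ := exists_refine U (fun x : ↥(U : X.Opens) => N x.1 x.2)
      (le_iSup_of_points fun x hx => ⟨⟨x, hx⟩, hxN x hx⟩)
    refine fin_sep he hp n U f hcf t t' fun k => ?_
    have := congrArg (F.res (V := X.affineBasicOpen (f k)) (hle k)) (hres (σ k).1 (σ k).2)
    simpa only [F.res_comp] using this
  refine isSheaf_of hsep fun c s hs => ?_
  have hcompat := compat_extend hB hsep c.W_le_left c.W_le_right c.W_cover s hs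
  obtain ⟨n, f, σ, hcf, hle⟩ := exists_refine c.U c.V c.V_cover
  obtain ⟨t, ht⟩ := fin_glue he hp n c.U f hcf
    (fun k => F.res (V := X.affineBasicOpen (f k)) (hle k) (s (σ k)))
    (fun i j N h₁ h₂ => by
      rw [F.res_comp, F.res_comp]
      exact hcompat _ _ N _ _)
  refine ⟨t, fun a => hsep _ _ _ fun x hx => ?_⟩
  obtain ⟨k, hk⟩ := mem_iSup_of_le hcf (c.V_le a hx)
  obtain ⟨N, hxN, hN⟩ := exists_mem_le hB
    (show x ∈ (c.V a : X.Opens) ⊓ X.basicOpen (f k) from ⟨hx, hk⟩)
  have hN₁ : (N : X.Opens) ≤ (c.V a : X.Opens) := hN.trans inf_le_left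
  have hN₂ : (N : X.Opens) ≤ (X.affineBasicOpen (f k) : X.Opens) := hN.trans inf_le_right
  refine ⟨N, hN₁, hxN, ?_⟩
  have e := congrArg (F.res hN₂) (ht k)
  simp only [F.res_comp] at e ⊢
  rw [e]
  exact hcompat _ _ N _ _

end Groth.Agent.H17.AffBasis
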